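import Cfsg.Agent.Lib.Helper4.Orb.McL.Trans
import Cfsg.Agent.Lib.Helper4.Orb.C3.Main

set_option autoImplicit false
set_option linter.style.haveILetI false
set_option linter.unusedVariables false
set_option linter.unusedSectionVars false

/-! The joint stabiliser of a vector `u` of sum of squares 48 and a minimal vector `v` with
`u - v` minimal: the 275 and the 2025 minimal vectors. -/

namespace Cfsg.Agent.Helper4.CO.McL

open Cfsg Cfsg.Agent.Helper4.CO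

theorem anc0_eq : anc0 = C3.anc0 := by decide

theorem anc2_eq : anc2 = zeroL := by decide

theorem anc1_mem : mkL anc1 anc1_in ∈ statSet 32 C3.anc0 C3.anc1 C3.anc2 (24, 0, 0) :=
  mem_statSet_mkL 32 C3.anc0 C3.anc1 C3.anc2 (24, 0, 0) C3.anc0_in.1 C3.anc1_in.1 C3.anc2_in.1
    anc1 anc1_in (by decide) (by decide)

theorem exists_based (u v : leechLattice) (hu : sqNorm (u : GolayPt → ℤ) = 48)
    (hv : v ∈ dotSet 32 u 0 0 (24, 0, 0)) :
    ∃ h : Co0, Based h u v 0 anc0 anc1 anc2 := by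
  obtain ⟨h, hb⟩ := C3.exists_based u hu
  obtain ⟨h', hb'⟩ := hb.extend2 C3.transP anc1 anc1_in anc1_mem (toV_zero_of_eq anc2_eq) hv
  exact ⟨h', hb'.congr anc0_eq.symm rfl rfl⟩

theorem card_R (u v : leechLattice) (hu : sqNorm (u : GolayPt → ℤ) = 48)
    (hv : v ∈ dotSet 32 u 0 0 (24, 0, 0)) : (dotSet 32 u v 0 (24, 16, 0)).ncard = 275 := by
  obtain ⟨h, hb⟩ := exists_based u v hu hv
  rw [hb.ncard anc0_in.1 anc1_in.1 anc2_in.1, countR]

theorem card_T (u v : leechLattice) (hu : sqNorm (u : GolayPt → ℤ) = 48)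
    (hv : v ∈ dotSet 32 u 0 0 (24, 0, 0)) : (dotSet 32 u v 0 (16, 0, 0)).ncard = 2025 := by
  obtain ⟨h, hb⟩ := exists_based u v hu hv
  rw [hb.ncard anc0_in.1 anc1_in.1 anc2_in.1, countT]

theorem trans_R (u v : leechLattice) (hu : sqNorm (u : GolayPt → ℤ) = 48)
    (hv : v ∈ dotSet 32 u 0 0 (24, 0, 0)) {x x' : leechLattice}
    (hx : x ∈ dotSet 32 u v 0 (24, 16, 0)) (hx' : x' ∈ dotSet 32 u v 0 (24, 16, 0)) :
    ∃ g : Co0, g • u = u ∧ g • v = v ∧ g • x = x' := by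
  obtain ⟨h, hb⟩ := exists_based u v hu hv
  obtain ⟨g, h1, h2, _, h3⟩ := hb.trans transR hx hx'
  exact ⟨g, h1, h2, h3⟩

theorem trans_T (u v : leechLattice) (hu : sqNorm (u : GolayPt → ℤ) = 48)
    (hv : v ∈ dotSet 32 u 0 0 (24, 0, 0)) {x x' : leechLattice}
    (hx : x ∈ dotSet 32 u v 0 (16, 0, 0)) (hx' : x' ∈ dotSet 32 u v 0 (16, 0, 0)) :
    ∃ g : Co0, g • u = u ∧ g • v = v ∧ g • x = x' := by
  obtain ⟨h, hb⟩ := exists_based u v hu hv
  obtain ⟨g, h1, h2, _, h3⟩ := hb.trans transT hx hx'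
  exact ⟨g, h1, h2, h3⟩

end Cfsg.Agent.Helper4.CO.McL
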