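import Cfsg.Agent.Lib.Helper4.Orb.McL.Cfg

set_option autoImplicit false
set_option linter.style.haveILetI false
set_option linter.unusedVariables false
set_option linter.unusedSectionVars false

/-! Start vector of an orbit (generated data). -/

namespace Cfsg.Agent.Helper4.CO.McL

open Cfsg Cfsg.Agent.Helper4.CO

/-- start vector -/
def startT : List ℤ := [4, -4, 0, 0, 0, 0, 0, 0, 0, 0, 0, 0, 0, 0, 0, 0, 0, 0, 0, 0, 0, 0, 0, 0]

theorem startT_in : InLP startT := by decide +kernel

end Cfsg.Agent.Helper4.CO.McL
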