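import Cfsg.Agent.Lib.Helper4.CoOrbitCount
import Cfsg.Agent.Lib.Helper4.Orb.McL.Cfg

set_option autoImplicit false
set_option linter.style.haveILetI false
set_option linter.unusedVariables false
set_option linter.unusedSectionVars false
set_option Elab.async false

/-! A count of vectors with prescribed inner products (kernel computation). -/

namespace Cfsg.Agent.Helper4.CO.McL

open Cfsg Cfsg.Agent.Helper4.CO

set_option maxRecDepth 1000000 in
theorem countR_p : part1 anc0 anc1 anc2 (24, 16, 0) = 22 := by decide +kernel

set_option maxRecDepth 1000000 in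
theorem countR_b0 : partB anc0 anc1 anc2 (24, 16, 0) 0 = 0 := by decide +kernel

set_option maxRecDepth 1000000 in
theorem countR_b1 : partB anc0 anc1 anc2 (24, 16, 0) 1 = 0 := by decide +kernel

set_option maxRecDepth 1000000 in
theorem countR_b2 : partB anc0 anc1 anc2 (24, 16, 0) 2 = 0 := by decide +kernel

set_option maxRecDepth 1000000 in
theorem countR_b3 : partB anc0 anc1 anc2 (24, 16, 0) 3 = 0 := by decide +kernel

set_option maxRecDepth 1000000 in
theorem countR_b4 : partB anc0 anc1 anc2 (24, 16, 0) 4 = 16 := by decide +kernel

set_option maxRecDepth 1000000 in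
theorem countR_b5 : partB anc0 anc1 anc2 (24, 16, 0) 5 = 40 := by decide +kernel

set_option maxRecDepth 1000000 in
theorem countR_b6 : partB anc0 anc1 anc2 (24, 16, 0) 6 = 40 := by decide +kernel

set_option maxRecDepth 1000000 in
theorem countR_b7 : partB anc0 anc1 anc2 (24, 16, 0) 7 = 80 := by decide +kernel

set_option maxRecDepth 1000000 in
theorem countR_b8 : partB anc0 anc1 anc2 (24, 16, 0) 8 = 0 := by decide +kernel

set_option maxRecDepth 1000000 in
theorem countR_b9 : partB anc0 anc1 anc2 (24, 16, 0) 9 = 0 := by decide +kernel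

set_option maxRecDepth 1000000 in
theorem countR_b10 : partB anc0 anc1 anc2 (24, 16, 0) 10 = 0 := by decide +kernel

set_option maxRecDepth 1000000 in
theorem countR_b11 : partB anc0 anc1 anc2 (24, 16, 0) 11 = 0 := by decide +kernel

set_option maxRecDepth 1000000 in
theorem countR_b12 : partB anc0 anc1 anc2 (24, 16, 0) 12 = 40 := by decide +kernel

set_option maxRecDepth 1000000 in
theorem countR_b13 : partB anc0 anc1 anc2 (24, 16, 0) 13 = 16 := by decide +kernel

set_option maxRecDepth 1000000 in
theorem countR_b14 : partB anc0 anc1 anc2 (24, 16, 0) 14 = 16 := by decide +kernel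

set_option maxRecDepth 1000000 in
theorem countR_b15 : partB anc0 anc1 anc2 (24, 16, 0) 15 = 5 := by decide +kernel

theorem countR : fast32 anc0 anc1 anc2 (24, 16, 0) = 275 := by
  rw [fast32_parts, countR_p, countR_b0, countR_b1, countR_b2, countR_b3, countR_b4, countR_b5, countR_b6, countR_b7, countR_b8, countR_b9, countR_b10, countR_b11, countR_b12, countR_b13, countR_b14, countR_b15]

end Cfsg.Agent.Helper4.CO.McL
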