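import Cfsg.Agent.Lib.Helper4.CoOrbitCount
import Cfsg.Agent.Lib.Helper4.Orb.McL.Cfg

set_option autoImplicit false
set_option linter.style.haveILetI false
set_option linter.unusedVariables false
set_option linter.unusedSectionVars false
set_option Elab.async false

/-! A count of vectors with prescribed inner products (kernel computation). -/

namespace Cfsg.Agent.Helper4.CO.McL

open Cfsg Cfsg.Agent.Helper4.CO

set_option maxRecDepth 1000000 in
theorem countT_p : part1 anc0 anc1 anc2 (16, 0, 0) = 1 := by decide +kernel

set_option maxRecDepth 1000000 in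
theorem countT_b0 : partB anc0 anc1 anc2 (16, 0, 0) 0 = 130 := by decide +kernel

set_option maxRecDepth 1000000 in
theorem countT_b1 : partB anc0 anc1 anc2 (16, 0, 0) 1 = 80 := by decide +kernel

set_option maxRecDepth 1000000 in
theorem countT_b2 : partB anc0 anc1 anc2 (16, 0, 0) 2 = 80 := by decide +kernel

set_option maxRecDepth 1000000 in
theorem countT_b3 : partB anc0 anc1 anc2 (16, 0, 0) 3 = 40 := by decide +kernel

set_option maxRecDepth 1000000 in
theorem countT_b4 : partB anc0 anc1 anc2 (16, 0, 0) 4 = 0 := by decide +kernel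

set_option maxRecDepth 1000000 in
theorem countT_b5 : partB anc0 anc1 anc2 (16, 0, 0) 5 = 0 := by decide +kernel

set_option maxRecDepth 1000000 in
theorem countT_b6 : partB anc0 anc1 anc2 (16, 0, 0) 6 = 0 := by decide +kernel

set_option maxRecDepth 1000000 in
theorem countT_b7 : partB anc0 anc1 anc2 (16, 0, 0) 7 = 0 := by decide +kernel

set_option maxRecDepth 1000000 in
theorem countT_b8 : partB anc0 anc1 anc2 (16, 0, 0) 8 = 112 := by decide +kernel

set_option maxRecDepth 1000000 in
theorem countT_b9 : partB anc0 anc1 anc2 (16, 0, 0) 9 = 280 := by decide +kernel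

set_option maxRecDepth 1000000 in
theorem countT_b10 : partB anc0 anc1 anc2 (16, 0, 0) 10 = 280 := by decide +kernel

set_option maxRecDepth 1000000 in
theorem countT_b11 : partB anc0 anc1 anc2 (16, 0, 0) 11 = 560 := by decide +kernel

set_option maxRecDepth 1000000 in
theorem countT_b12 : partB anc0 anc1 anc2 (16, 0, 0) 12 = 240 := by decide +kernel

set_option maxRecDepth 1000000 in
theorem countT_b13 : partB anc0 anc1 anc2 (16, 0, 0) 13 = 96 := by decide +kernel

set_option maxRecDepth 1000000 in
theorem countT_b14 : partB anc0 anc1 anc2 (16, 0, 0) 14 = 96 := by decide +kernel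

set_option maxRecDepth 1000000 in
theorem countT_b15 : partB anc0 anc1 anc2 (16, 0, 0) 15 = 30 := by decide +kernel

theorem countT : fast32 anc0 anc1 anc2 (16, 0, 0) = 2025 := by
  rw [fast32_parts, countT_p, countT_b0, countT_b1, countT_b2, countT_b3, countT_b4, countT_b5, countT_b6, countT_b7, countT_b8, countT_b9, countT_b10, countT_b11, countT_b12, countT_b13, countT_b14, countT_b15]

end Cfsg.Agent.Helper4.CO.McL
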