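import Cfsg.Agent.Lib.Helper4.CoNodup
import Cfsg.Agent.Lib.Helper4.Orb.McL.RF0

set_option autoImplicit false
set_option linter.style.haveILetI false
set_option linter.unusedVariables false
set_option linter.unusedSectionVars false

/-! Orbit certificate assembly (generated data). -/

namespace Cfsg.Agent.Helper4.CO.McL

open Cfsg Cfsg.Agent.Helper4.CO

/-- the full chunks -/
def tnR : List (List ℕ × ℕ) :=
  []

/-- the chunks -/
def chunksR : List (List ℕ × List ℕ) := mkChunks 2000 tnR tapeR0 275 numR0

theorem chunksR_ok : ∀ ch ∈ chunksR, chunkOK gens startR ch.1 ch.2 = true := by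
  apply mem_mkChunks
  · intro p hp
    simp [tnR] at hp
  · exact okR0

/-- positions in increasing order of the keys -/
def sigmaR : List ℕ := flatW 17 2000
  []
  275 0x1000380010001080138005c00080002800300068000f0006800e0006e0015001a800180054003c001b000bc007600a700790027401ba00fb0041001c4017a00a50040801e001d000da002e801d401c400d40044803bc020c00e4007500270017c00e7007b0021801e600e9002e002b8018e01070081803b0010a0104004800188016800d20030003e001cc00a0006180258018000720065801a00194008c0036803d4018a00af003480310018c008a0054002b000f600d0003d001b801fc0099002d002a801a20094005d0024c01b6006b00468025c011600cd003180290019c00a2003280244018400fc0039801fc01fa00cc005d803d0016e008e0081002fc01b200c800418019000bc009f00758037001ae00e000708021c00ec006c0035002cc01240079003b803580164010f00240011c003e0032000900050007e001a002500110002e0039001100124008a00510086800b0000e00300015800a4004000460014000cc004c000b00128015800a000240021000380080003d001d0010c0026000300208006c0032001800138008c00140053002600134007c001d0084000c4002200090087000b40004001600278000400960052002a8007800a8011100848015c0216010c00880042800000112003a0040001f400ab007c80304019e009b006f8038c00ce00a1007b80324013c0084002c0020000be007e005a8026800b600b60054803c4014600ee004c0035400f800a6006f002e4016200d3004a802e000b200ff00478041400cc00ed0080802f001b000e5003e8018400e000f00037802c0011000ad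

set_option maxRecDepth 1000000 in
theorem certR : certOK 2000 (tnR.map fun p => p.2) 275 numR0 sigmaR = true := by
  decide +kernel

theorem chunksR_nd : (chunksR.flatMap fun ch => ch.2).Nodup :=
  nodup_mkChunks 2000 tnR tapeR0 275 numR0 sigmaR certR

theorem chunksR_len : (chunksR.flatMap fun ch => ch.2).length = 275 := by
  unfold chunksR
  rw [length_mkChunks]
  decide

end Cfsg.Agent.Helper4.CO.McL
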